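import Groth.Agent.Zeta.K656.ExpSer
import Groth.Agent.Zeta.K466.Count
import Mathlib.NumberTheory.LSeries.Convergence

/-!
# The Dirichlet series of a scheme of finite type over a finite field

`L_Y(s) = ∑_d A_d q ^ (-s d)`, where `A_d` is the number of effective zero cycles of degree `d`.
-/

set_option autoImplicit false
universe u

open AlgebraicGeometry CategoryTheory Groth.Agent.MiscA

namespace K656.ArithFin

variable {k : Type u} [Field k] {Y : Scheme.{u}} (f : Y ⟶ Spec (CommRingCat.of k))
  [LocallyOfFiniteType f]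

theorem card_residueField (x : Y) (hx : IsClosed ({x} : Set Y)) :
    Nat.card (Y.residueField x) = Nat.card k ^ EGA4loc.residueDegree f x := by
  have h1 := K466.Basic.residueDegree_pos f x hx
  rw [← K466.Basic.degree_eq_residueDegree] at h1 ⊢
  unfold PointCount.degree at h1 ⊢
  let _ := (PointCount.resHom f x).toAlgebra
  have : Module.Finite k (Y.residueField x) := Module.finite_of_finrank_pos h1
  exact Module.natCard_eq_pow_finrank (K := k) (V := Y.residueField x)

/-- Effective zero cycles as finitely supported functions on closed points. -/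
noncomputable def cycleEquiv (n : ℕ) :
    { α : Y →₀ ℕ // (∀ x ∈ α.support, IsClosed ({x} : Set Y)) ∧
      α.prod (fun x m => Nat.card (Y.residueField x) ^ m) = n } ≃
    { E : {x : Y // IsClosed ({x} : Set Y)} →₀ ℕ //
      Nat.card k ^ (ZetaAbsCount.degN (K466.Count.cdeg f) E) = n } := by
  classical
  have key : ∀ E : {x : Y // IsClosed ({x} : Set Y)} →₀ ℕ,
      E.prod (fun x m => Nat.card (Y.residueField x.1) ^ m) =
        Nat.card k ^ (ZetaAbsCount.degN (K466.Count.cdeg f) E) := by
    intro E
    unfold ZetaAbsCount.degN Finsupp.prod Finsupp.sum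
    rw [← Finset.prod_pow_eq_pow_sum]
    refine Finset.prod_congr rfl fun x _ => ?_
    change Nat.card (Y.residueField x.1) ^ (E x) = Nat.card k ^ (E x * K466.Count.cdeg f x)
    rw [card_residueField f x.1 x.2, ← pow_mul, mul_comm]
    rfl
  exact
    { toFun := fun α => ⟨α.1.subtypeDomain fun x => IsClosed ({x} : Set Y), by
        rw [← key, Finsupp.prod_subtypeDomain_index
          (h := fun x m => Nat.card (Y.residueField x) ^ m) α.2.1]
        exact α.2.2⟩
      invFun := fun E => ⟨E.1.embDomain (Function.Embedding.subtype _), by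
        refine ⟨?_, ?_⟩
        · intro x hx
          rw [Finsupp.support_embDomain, Finset.mem_map] at hx
          obtain ⟨y, -, rfl⟩ := hx
          exact y.2
        · rw [Finsupp.prod_embDomain]
          exact (key E.1).trans E.2⟩
      left_inv := fun α => by
        apply Subtype.ext
        ext x
        by_cases hx : IsClosed ({x} : Set Y)
        · exact Finsupp.embDomain_apply_self (Function.Embedding.subtype _) _ ⟨x, hx⟩
        · have h1 : α.1 x = 0 := by
            by_contra h
            exact hx (α.2.1 x (Finsupp.mem_support_iff.mpr h))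
          rw [h1]
          refine Finsupp.embDomain_of_notMem_range _ _ _ ?_
          rintro ⟨y, rfl⟩
          exact hx y.2
      right_inv := fun E => by
        apply Subtype.ext
        ext x
        exact Finsupp.embDomain_apply_self (Function.Embedding.subtype _) _ x }

theorem two_le_card [Finite k] : 2 ≤ Nat.card k := Finite.one_lt_card

variable [Finite k]

include f

theorem cycleNormCount_pow (d : ℕ) :
    Zeta.cycleNormCount Y (Nat.card k ^ d) = ZetaAbsCount.A (K466.Count.cdeg f) d := by
  unfold Zeta.cycleNormCount ZetaAbsCount.A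
  rw [Nat.card_congr (cycleEquiv f _)]
  refine Nat.card_congr (Equiv.subtypeEquivRight fun E => ?_)
  exact (Nat.pow_right_injective (two_le_card (k := k))).eq_iff

omit [Finite k] in
theorem cycleNormCount_eq_zero (n : ℕ) (h : n ∉ Set.range fun d : ℕ => Nat.card k ^ d) :
    Zeta.cycleNormCount Y n = 0 := by
  unfold Zeta.cycleNormCount
  rw [Nat.card_congr (cycleEquiv f _)]
  have : IsEmpty { E : {x : Y // IsClosed ({x} : Set Y)} →₀ ℕ //
      Nat.card k ^ (ZetaAbsCount.degN (K466.Count.cdeg f) E) = n } :=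
    ⟨fun E => h ⟨_, E.2⟩⟩
  exact Nat.card_of_isEmpty

theorem term_pow (s : ℂ) (d : ℕ) : LSeries.term (Zeta.arithCoeff Y) s (Nat.card k ^ d) =
    (ZetaAbsCount.A (K466.Count.cdeg f) d : ℂ) * ((Nat.card k : ℂ) ^ (-s)) ^ d := by
  have h0 : Nat.card k ^ d ≠ 0 := pow_ne_zero _ (by have := two_le_card (k := k); omega)
  rw [LSeries.term_of_ne_zero h0, Zeta.arithCoeff, cycleNormCount_pow f d, div_eq_mul_inv]
  congr 1
  rw [← Complex.cpow_neg, Nat.cast_pow, ← Complex.natCast_cpow_natCast_mul, Complex.cpow_nat_mul]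

theorem term_eq_zero (s : ℂ) (n : ℕ) (h : n ∉ Set.range fun d : ℕ => Nat.card k ^ d) :
    LSeries.term (Zeta.arithCoeff Y) s n = 0 := by
  rcases eq_or_ne n 0 with rfl | h0
  · exact LSeries.term_zero _ _
  · rw [LSeries.term_of_ne_zero h0, Zeta.arithCoeff, cycleNormCount_eq_zero f n h]
    simp

theorem lSeries_eq (s : ℂ) : LSeries (Zeta.arithCoeff Y) s =
    ∑' d, (ZetaAbsCount.A (K466.Count.cdeg f) d : ℂ) * ((Nat.card k : ℂ) ^ (-s)) ^ d := by
  have hinj := Nat.pow_right_injective (two_le_card (k := k))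
  unfold LSeries
  rw [← hinj.tsum_eq (f := fun n => LSeries.term (Zeta.arithCoeff Y) s n) ?_]
  · exact tsum_congr fun d => term_pow f s d
  · intro n hn
    by_contra h
    exact hn (term_eq_zero f s n h)

theorem lSeriesSummable_iff (s : ℂ) : LSeriesSummable (Zeta.arithCoeff Y) s ↔
    Summable fun d => (ZetaAbsCount.A (K466.Count.cdeg f) d : ℂ) * ((Nat.card k : ℂ) ^ (-s)) ^ d := by
  have hinj := Nat.pow_right_injective (two_le_card (k := k))
  unfold LSeriesSummable
  rw [← hinj.summable_iff (f := fun n => LSeries.term (Zeta.arithCoeff Y) s n) ?_]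
  · exact summable_congr fun d => term_pow f s d
  · intro n hn
    exact term_eq_zero f s n hn

variable [QuasiCompact f] {r : ℕ}
  (hc : ∃ c : ℕ, ∀ (k' : Type u) [Field k'] [Algebra k k'] [Finite k'],
      SgaExt.pointCount f k' ≤ c * Nat.card k ^ (r * Module.finrank k k'))

include hc

/-- The logarithmic recursion, with the geometric bound. -/
theorem exists_bound : ∃ c : ℕ, ∀ i, 1 ≤ i →
    ‖(ZetaAbsCount.N (K466.Count.cdeg f) i : ℂ)‖ ≤ c * ((Nat.card k : ℝ) ^ r) ^ i := by
  obtain ⟨c, hc⟩ := hc
  refine ⟨c, fun i hi => ?_⟩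
  obtain ⟨K, _, _, _, hK⟩ := PointCount.exists_extension k i (by omega)
  have h1 := hc K
  rw [K466.Basic.pointCount_eq_nPts, hK, K466.Count.nPts_eq_N] at h1
  rw [Complex.norm_natCast, ← pow_mul]
  exact_mod_cast h1

omit f [LocallyOfFiniteType f] [QuasiCompact f] hc in
theorem norm_cpow_lt (s : ℂ) (hs : (r : ℝ) < s.re) :
    (Nat.card k : ℝ) ^ r * ‖(Nat.card k : ℂ) ^ (-s)‖ < 1 := by
  have hq : 0 < Nat.card k := by have := two_le_card (k := k); omega
  have hq1 : (1 : ℝ) < Nat.card k := by
    have := two_le_card (k := k)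
    exact_mod_cast (by omega : 1 < Nat.card k)
  rw [Complex.norm_natCast_cpow_of_pos hq, ← Real.rpow_natCast, ← Real.rpow_add (by positivity)]
  refine Real.rpow_lt_one_of_one_lt_of_neg hq1 ?_
  rw [Complex.neg_re]
  linarith

theorem summable_of_lt (s : ℂ) (hs : (r : ℝ) < s.re) :
    LSeriesSummable (Zeta.arithCoeff Y) s ∧ LSeries (Zeta.arithCoeff Y) s ≠ 0 := by
  obtain ⟨c, hN⟩ := exists_bound f hc
  have h0 : (ZetaAbsCount.A (K466.Count.cdeg f) 0 : ℂ) = 1 := by
    rw [ZetaAbsCount.A_zero _ (K466.Count.cdeg_pos f), Nat.cast_one]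
  have hrec : ∀ n : ℕ, (n : ℂ) * (ZetaAbsCount.A (K466.Count.cdeg f) n : ℂ) =
      ∑ i ∈ Finset.Icc 1 n, (ZetaAbsCount.N (K466.Count.cdeg f) i : ℂ) *
        (ZetaAbsCount.A (K466.Count.cdeg f) (n - i) : ℂ) := by
    intro n
    have := ZetaAbsCount.mul_A (K466.Count.cdeg f) (K466.Count.cdeg_pos f)
      (K466.Count.finite_cdeg f) n
    exact_mod_cast this
  have hQ : (0 : ℝ) < (Nat.card k : ℝ) ^ r := by
    have := two_le_card (k := k)
    have : (0 : ℝ) < Nat.card k := by exact_mod_cast (by omega : 0 < Nat.card k)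
    positivity
  constructor
  · rw [lSeriesSummable_iff f]
    exact (ExpSer.summable_norm hQ h0 hrec hN (norm_cpow_lt s hs)).of_norm
  · rw [lSeries_eq f]
    exact ExpSer.tsum_ne_zero hQ h0 hrec hN (norm_cpow_lt s hs)

end K656.ArithFin
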