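import Groth.Agent.Zeta.K468.Count
import Mathlib.AlgebraicGeometry.Morphisms.FiniteType
import Mathlib.AlgebraicGeometry.Morphisms.QuasiCompact
import Mathlib.AlgebraicGeometry.Limits
import Mathlib.Topology.KrullDimension
import Mathlib.RingTheory.Jacobson.Ring
import Mathlib.FieldTheory.Finite.Basic

/-!
# Points of schemes of finite type with values in finite fields, through a finite affine cover
-/

set_option autoImplicit false
universe u v w

open AlgebraicGeometry CategoryTheory Limits TensorProduct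

namespace K656.Cover

open K468.Cnt

/-- A quasi-compact scheme has a finite affine open cover through which all points factor, and whose
members have dimension at most that of the scheme. -/
theorem exists_cover (X : Scheme.{u}) [CompactSpace X] :
    ∃ (n : ℕ) (A : Fin n → CommRingCat.{u}) (g : ∀ i, Spec (A i) ⟶ X),
      (∀ i, IsOpenImmersion (g i)) ∧
      (∀ i, ringKrullDim (A i) ≤ topologicalKrullDim X) ∧
      ∀ (F : Type u) [Field F] (h : Spec (CommRingCat.of F) ⟶ X),
        ∃ (i : Fin n) (h' : Spec (CommRingCat.of F) ⟶ Spec (A i)), h' ≫ g i = h := by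
  classical
  let 𝒰 := X.affineCover.finiteSubcover
  let e := (Fintype.equivFin 𝒰.I₀).symm
  have haff : ∀ i, IsAffine (𝒰.X i) := fun i => inferInstance
  refine ⟨Fintype.card 𝒰.I₀, fun i => Γ(𝒰.X (e i), ⊤),
    fun i => (𝒰.X (e i)).isoSpec.inv ≫ 𝒰.f (e i), fun i => inferInstance, fun i => ?_, ?_⟩
  · rw [← PrimeSpectrum.topologicalKrullDim_eq_ringKrullDim]
    exact ((𝒰.X (e i)).isoSpec.inv ≫ 𝒰.f (e i)).isOpenEmbedding.isInducing.topologicalKrullDim_le
  · intro F _ h
    let pt : Spec (CommRingCat.of F) := IsLocalRing.closedPoint F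
    obtain ⟨i, y, hy⟩ := 𝒰.exists_eq (h pt)
    have hrange : Set.range h ⊆ Set.range (𝒰.f i) := by
      rintro _ ⟨x, rfl⟩
      have hx : x = pt := Subsingleton.elim _ _
      rw [hx]
      exact ⟨y, hy⟩
    refine ⟨e.symm i, IsOpenImmersion.lift (𝒰.f (e (e.symm i))) h ?_ ≫
      (𝒰.X (e (e.symm i))).isoSpec.hom, ?_⟩
    · rw [Equiv.apply_symm_apply]
      exact hrange
    · rw [Category.assoc, Iso.hom_inv_id_assoc, IsOpenImmersion.lift_fac]

/-- The number of points over `φ` is at most the sum of the numbers of points of affine charts. -/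
theorem card_points_le {R : Type u} [CommRing R] {X : Scheme.{u}}
    (f : X ⟶ Spec (CommRingCat.of R)) [LocallyOfFiniteType f] [CompactSpace X] :
    ∃ (n : ℕ) (A : Fin n → Type u) (_ : ∀ i, CommRing (A i)) (_ : ∀ i, Algebra R (A i)),
      (∀ i, Algebra.FiniteType R (A i)) ∧ (∀ i, ringKrullDim (A i) ≤ topologicalKrullDim X) ∧
      ∀ (F : Type u) [Field F] [Finite F] (φ : R →+* F),
        Nat.card {g : Spec (CommRingCat.of F) ⟶ X // g ≫ f = Spec.map (CommRingCat.ofHom φ)} ≤
          ∑ i, N (A i) φ := by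
  classical
  obtain ⟨n, A, g, hg, hdim, hfac⟩ := exists_cover X
  let ψ : ∀ i, R →+* A i := fun i => (Spec.preimage (g i ≫ f)).hom
  have hψ : ∀ i, Spec.map (CommRingCat.ofHom (ψ i)) = g i ≫ f := fun i => by
    simp [ψ]
  let alg : ∀ i, Algebra R (A i) := fun i => (ψ i).toAlgebra
  have hft : ∀ i, Algebra.FiniteType R (A i) := by
    intro i
    have h1 : LocallyOfFiniteType (Spec.map (CommRingCat.ofHom (ψ i))) := by
      rw [hψ]; infer_instance
    rw [HasRingHomProperty.Spec_iff (P := @LocallyOfFiniteType)] at h1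
    exact h1
  refine ⟨n, fun i => A i, fun i => inferInstance, alg, hft, hdim, ?_⟩
  intro F _ _ φ
  have hfin : ∀ i, Finite {χ : A i →+* F // χ.comp (algebraMap R (A i)) = φ} :=
    fun i => finite_homs φ
  have hsum : ∑ i, N (A i) φ =
      Nat.card (Σ i, {χ : A i →+* F // χ.comp (algebraMap R (A i)) = φ}) := by
    rw [Nat.card_sigma]
    rfl
  rw [hsum]
  let toX : (Σ i, {χ : A i →+* F // χ.comp (algebraMap R (A i)) = φ}) →
      {h : Spec (CommRingCat.of F) ⟶ X // h ≫ f = Spec.map (CommRingCat.ofHom φ)} :=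
    fun x => ⟨Spec.map (CommRingCat.ofHom x.2.1) ≫ g x.1, by
      rw [Category.assoc, ← hψ, ← Spec.map_comp, ← CommRingCat.ofHom_comp]
      congr 2
      exact x.2.2⟩
  refine Nat.card_le_card_of_surjective toX ?_
  rintro ⟨h, hh⟩
  obtain ⟨i, h', rfl⟩ := hfac F h
  refine ⟨⟨i, (Spec.preimage h').hom, ?_⟩, ?_⟩
  · have h2 : Spec.map (CommRingCat.ofHom (ψ i) ≫ Spec.preimage h') =
        Spec.map (CommRingCat.ofHom φ) := by
      rw [Spec.map_comp, hψ, Spec.map_preimage, ← hh, Category.assoc]
    have h3 := Spec.map_injective h2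
    exact congrArg (fun t => t.hom) h3
  · apply Subtype.ext
    simp [toX]

end K656.Cover
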