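import Groth.Agent.Zeta.K656.Cover
import Groth.Agent.UnramA.MonoEndo
import Mathlib.RingTheory.KrullDimension.Basic
import Mathlib.RingTheory.Localization.BaseChange
import Mathlib.Analysis.SpecialFunctions.Pow.Real

/-!
# Points of finitely generated rings in finite fields: large and small characteristics

For a finitely generated ring `A` of dimension at most `r`:

* `card_hom_large`: for all primes `p` outside a finite set, `#Hom(A, F) ≤ C (#F) ^ (r - 1)` for the
  finite fields `F` of characteristic `p` (and `= 0` if `r = 0`);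
* `card_hom_small`: for each prime `p`, `#Hom(A, F) ≤ C (#F) ^ r`.
-/

set_option autoImplicit false
universe u v w

open TensorProduct nonZeroDivisors

namespace K656.GenDim

open K468.Cnt

theorem finite_of_isField (K : Type u) [CommRing K] (hK : IsField K) [inst : Algebra ℤ K]
    [h : Algebra.FiniteType ℤ K] : Finite K := by
  let F : Field K := hK.toField
  obtain rfl : inst = Ring.toIntAlgebra K := Subsingleton.elim _ _
  exact Groth.Agent.UnramA.MonoEndo.finite_of_finiteType_int K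

section dim

variable (A : Type u) [CommRing A] [Algebra.FiniteType ℤ A]

theorem length_add_one_le (l : LTSeries (PrimeSpectrum (ℚ ⊗[ℤ] A))) :
    ((l.length + 1 : ℕ) : WithBot ℕ∞) ≤ ringKrullDim A := by
  let _ : Algebra A (ℚ ⊗[ℤ] A) := Algebra.TensorProduct.rightAlgebra
  have hloc : IsLocalization (Algebra.algebraMapSubmonoid A ℤ⁰) (ℚ ⊗[ℤ] A) := inferInstance
  have hinj : Function.Injective (PrimeSpectrum.comap (algebraMap A (ℚ ⊗[ℤ] A))) :=
    PrimeSpectrum.localization_comap_injective _ (Algebra.algebraMapSubmonoid A ℤ⁰)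
  have hmono : StrictMono (PrimeSpectrum.comap (algebraMap A (ℚ ⊗[ℤ] A))) := by
    intro p q hpq
    refine lt_of_le_of_ne (Ideal.comap_mono hpq.le) fun h => hpq.ne (hinj h)
  let l' := l.map _ hmono
  -- the last prime is not maximal
  let P : PrimeSpectrum A := l'.last
  have hP : ∀ n : ℤ, n ≠ 0 → (n : A) ∉ P.asIdeal := by
    intro n hn h
    have h1 : algebraMap A (ℚ ⊗[ℤ] A) (n : A) ∈ l.last.asIdeal := by
      have : P = PrimeSpectrum.comap (algebraMap A (ℚ ⊗[ℤ] A)) l.last := rfl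
      rw [this] at h
      exact h
    have h2 : IsUnit (algebraMap A (ℚ ⊗[ℤ] A) (n : A)) := by
      refine IsLocalization.map_units (M := Algebra.algebraMapSubmonoid A ℤ⁰) (ℚ ⊗[ℤ] A)
        ⟨(n : A), n, mem_nonZeroDivisors_of_ne_zero hn, by simp⟩
    exact l.last.isPrime.ne_top (Ideal.eq_top_of_isUnit_mem _ h1 h2)
  have hmax : ¬ P.asIdeal.IsMaximal := by
    intro hm
    have hfin : Finite (A ⧸ P.asIdeal) :=
      finite_of_isField _ ((Ideal.Quotient.maximal_ideal_iff_isField_quotient _).mp hm)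
    have : CharZero (A ⧸ P.asIdeal) := by
      refine ⟨fun a b hab => ?_⟩
      by_contra hne
      have h3 : (((a : ℤ) - (b : ℤ) : ℤ) : A) ∈ P.asIdeal := by
        rw [← Ideal.Quotient.eq_zero_iff_mem]
        push_cast
        rw [map_sub, map_natCast, map_natCast, hab, sub_self]
      exact hP _ (by rw [sub_ne_zero]; exact_mod_cast hne) h3
    exact (Infinite.of_injective (Nat.cast : ℕ → A ⧸ P.asIdeal) Nat.cast_injective).not_finite hfin
  obtain ⟨M, hM, hPM⟩ := Ideal.exists_le_maximal P.asIdeal P.isPrime.ne_top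
  have hlt : P < ⟨M, hM.isPrime⟩ := by
    refine lt_of_le_of_ne hPM fun h => hmax ?_
    have : P.asIdeal = M := congrArg PrimeSpectrum.asIdeal h
    rw [this]
    exact hM
  have h := Order.LTSeries.length_le_krullDim (l'.snoc ⟨M, hM.isPrime⟩ hlt)
  have hlen : (l'.snoc ⟨M, hM.isPrime⟩ hlt).length = l.length + 1 := by
    simp [l', RelSeries.snoc]
  rw [hlen] at h
  exact h

theorem dim_le {r : ℕ} (hr : ringKrullDim A ≤ (r + 1 : ℕ)) : ringKrullDim (ℚ ⊗[ℤ] A) ≤ r := by
  unfold ringKrullDim Order.krullDim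
  refine iSup_le fun l => ?_
  have := (length_add_one_le A l).trans hr
  have h2 : l.length + 1 ≤ r + 1 := by exact_mod_cast this
  have h3 : l.length ≤ r := by omega
  exact_mod_cast h3

theorem subsingleton_of_dim_le_zero (hr : ringKrullDim A ≤ (0 : ℕ)) : Subsingleton (ℚ ⊗[ℤ] A) := by
  by_contra h
  rw [not_subsingleton_iff_nontrivial] at h
  obtain ⟨P⟩ : Nonempty (PrimeSpectrum (ℚ ⊗[ℤ] A)) := inferInstance
  let l : LTSeries (PrimeSpectrum (ℚ ⊗[ℤ] A)) := RelSeries.singleton _ P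
  have h1 := (length_add_one_le A l).trans hr
  have h2 : l.length + 1 ≤ 0 := by exact_mod_cast h1
  omega

end dim

section count

theorem N_int (A : Type u) [CommRing A] (F : Type v) [Field F] : N (R := ℤ) A (Int.castRingHom F) = Nat.card (A →+* F) := by
  unfold N
  refine Nat.card_congr (Equiv.subtypeUnivEquiv fun ψ => ?_)
  exact RingHom.ext_int _ _

variable (A : Type u) [CommRing A] [hft : Algebra.FiniteType ℤ A]

theorem card_hom_large {r : ℕ} (hr : ringKrullDim A ≤ (r : ℕ)) : ∃ (C p₀ : ℕ), ∀ p : ℕ, p.Prime →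
    p₀ ≤ p → ∀ (F : Type v) [Field F] [Finite F] [CharP F p],
      (Nat.card (A →+* F) : ℝ) ≤ C * (Nat.card F : ℝ) ^ ((r : ℝ) - 1) := by
  have key : ∀ (h : ℤ), h ≠ 0 → ∀ p : ℕ, p.Prime → h.natAbs + 1 ≤ p → ∀ (F : Type v) [Field F]
      [CharP F p], Int.castRingHom F h ≠ 0 := by
    intro h hh p hp hle F _ _ h0
    rw [eq_intCast, CharP.intCast_eq_zero_iff F p] at h0
    have := Int.natAbs_dvd_natAbs.mpr h0
    rw [Int.natAbs_natCast] at this
    have := Nat.le_of_dvd (Int.natAbs_pos.mpr hh) this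
    omega
  rcases r with _ | r
  · have hsub := subsingleton_of_dim_le_zero A hr
    let _ : Algebra A (ℚ ⊗[ℤ] A) := Algebra.TensorProduct.rightAlgebra
    have hloc : IsLocalization (Algebra.algebraMapSubmonoid A ℤ⁰) (ℚ ⊗[ℤ] A) := inferInstance
    have h2 : algebraMap A (ℚ ⊗[ℤ] A) 1 = 0 := Subsingleton.elim _ _
    rw [IsLocalization.map_eq_zero_iff (Algebra.algebraMapSubmonoid A ℤ⁰)] at h2
    obtain ⟨⟨_, c, hc, rfl⟩, h3⟩ := h2
    dsimp only at h3
    rw [mul_one] at h3
    refine ⟨0, c.natAbs + 1, ?_⟩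
    intro p hp hle F _ _ _
    have : IsEmpty (A →+* F) := by
      refine ⟨fun ψ => key c (nonZeroDivisors.ne_zero hc) p hp hle F ?_⟩
      have h4 := congrArg ψ h3
      simpa using h4
    simp
  · obtain ⟨h, hh, C, hC⟩ := upper_bound (R := ℤ) (A := A) ℚ r (dim_le A hr)
    refine ⟨C, h.natAbs + 1, ?_⟩
    intro p hp hle F _ _ _
    have h1 := hC F (Int.castRingHom F) (key h hh p hp hle F)
    rw [N_int] at h1
    have h2 : ((r + 1 : ℕ) : ℝ) - 1 = (r : ℕ) := by push_cast; ring
    rw [h2, Real.rpow_natCast]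
    exact_mod_cast h1

theorem card_hom_small {r : ℕ} (hr : ringKrullDim A ≤ (r : ℕ)) (p : ℕ) (hp : p.Prime) :
    ∃ C : ℕ, ∀ (F : Type v) [Field F] [Finite F] [CharP F p],
      Nat.card (A →+* F) ≤ C * Nat.card F ^ r := by
  have : Fact p.Prime := ⟨hp⟩
  have hsurj : Function.Surjective
      (Algebra.TensorProduct.includeRight : A →ₐ[ℤ] ZMod p ⊗[ℤ] A) :=
    Algebra.TensorProduct.includeRight_surjective _ (ZMod.ringHom_surjective _)
  have hdim : ringKrullDim (ZMod p ⊗[ZMod p] (ZMod p ⊗[ℤ] A)) ≤ r := by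
    rw [ringKrullDim_eq_of_ringEquiv
      (Algebra.TensorProduct.lid (ZMod p) (ZMod p ⊗[ℤ] A)).toRingEquiv]
    exact (ringKrullDim_le_of_surjective
      (Algebra.TensorProduct.includeRight : A →ₐ[ℤ] ZMod p ⊗[ℤ] A).toRingHom hsurj).trans hr
  obtain ⟨h, hh, C, hC⟩ := upper_bound (R := ZMod p) (A := ZMod p ⊗[ℤ] A) (ZMod p) r hdim
  refine ⟨C, ?_⟩
  intro F _ _ _
  let φ : ZMod p →+* F := ZMod.castHom (dvd_refl p) F
  refine le_trans ?_ (hC F φ (by simpa using hh))
  have hfin := finite_homs (R := ZMod p) (A := ZMod p ⊗[ℤ] A) φ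
  refine Nat.card_le_card_of_injective
    (fun χ : A →+* F => (⟨(Algebra.TensorProduct.lift φ.toIntAlgHom χ.toIntAlgHom
      fun _ _ => Commute.all _ _).toRingHom, ?_⟩ :
      {ψ : (ZMod p ⊗[ℤ] A) →+* F // ψ.comp (algebraMap (ZMod p) (ZMod p ⊗[ℤ] A)) = φ})) ?_
  · exact Subsingleton.elim _ _
  · intro χ χ' hχ
    ext a
    have h1 := congrArg (fun t => t.1 ((1 : ZMod p) ⊗ₜ[ℤ] a)) hχ
    simpa using h1

end count

end K656.GenDim
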