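import Mathlib.Analysis.SpecificLimits.Normed
import Mathlib.Analysis.Complex.Basic
import Mathlib.RingTheory.PowerSeries.Inverse
import Mathlib.RingTheory.PowerSeries.Derivative
import Groth.Agent.MiscA.ZetaAbsCount

/-!
# Power series with logarithmic derivative of geometric growth

If `a 0 = 1`, `n a_n = ∑_{i=1}^n N_i a_{n-i}` and `|N_i| ≤ c Q ^ i`, then `∑ a_n z ^ n` converges absolutely
for `|z| Q < 1` and does not vanish there.
-/

set_option autoImplicit false

open Finset PowerSeries Groth.Agent.MiscA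

namespace K656.ExpSer

/-- The bound on the coefficients. -/
theorem norm_le {a N : ℕ → ℂ} {c : ℕ} {Q : ℝ} (hQ : 0 < Q) (h0 : a 0 = 1)
    (h : ∀ n : ℕ, (n : ℂ) * a n = ∑ i ∈ Icc 1 n, N i * a (n - i))
    (hN : ∀ i, 1 ≤ i → ‖N i‖ ≤ c * Q ^ i) (n : ℕ) :
    ‖a n‖ ≤ ((n + c).choose c : ℝ) * Q ^ n := by
  have hstep : ∀ n : ℕ, (n : ℝ) * (‖a n‖ / Q ^ n) ≤ c * ∑ j ∈ range n, ‖a j‖ / Q ^ j := by
    intro n
    have hQn : 0 < Q ^ n := pow_pos hQ n
    have h1 : (n : ℝ) * ‖a n‖ ≤ ∑ i ∈ Icc 1 n, c * Q ^ i * ‖a (n - i)‖ := by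
      have : (n : ℝ) * ‖a n‖ = ‖(n : ℂ) * a n‖ := by rw [norm_mul, Complex.norm_natCast]
      rw [this, h n]
      refine (norm_sum_le _ _).trans (sum_le_sum fun i hi => ?_)
      rw [norm_mul]
      exact mul_le_mul_of_nonneg_right (hN i (mem_Icc.mp hi).1) (norm_nonneg _)
    have h2 : ∑ i ∈ Icc 1 n, c * Q ^ i * ‖a (n - i)‖ =
        ∑ j ∈ range n, c * Q ^ (n - j) * ‖a j‖ := by
      refine sum_nbij' (fun i => n - i) (fun j => n - j) ?_ ?_ ?_ ?_ ?_
      · intro i hi; rw [mem_Icc] at hi; rw [mem_range]; omega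
      · intro j hj; rw [mem_range] at hj; rw [mem_Icc]; omega
      · intro i hi; rw [mem_Icc] at hi; omega
      · intro j hj; rw [mem_range] at hj; omega
      · intro i hi
        rw [mem_Icc] at hi
        have : n - (n - i) = i := by omega
        rw [this]
    rw [h2] at h1
    rw [mul_div_assoc', div_le_iff₀ hQn]
    refine h1.trans (le_of_eq ?_)
    rw [mul_sum, sum_mul]
    refine sum_congr rfl fun j hj => ?_
    rw [mem_range] at hj
    have : Q ^ n = Q ^ (n - j) * Q ^ j := by rw [← pow_add]; congr 1; omega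
    rw [this]
    field_simp
  have hS : ∀ n, ∑ j ∈ range (n + 1), ‖a j‖ / Q ^ j ≤ ((n + c).choose n : ℝ) := by
    intro n
    induction n with
    | zero => simp [h0]
    | succ n ih =>
      rw [sum_range_succ]
      have h1 := hstep (n + 1)
      have hn : (0 : ℝ) < ((n + 1 : ℕ) : ℝ) := by positivity
      have h2 : ‖a (n + 1)‖ / Q ^ (n + 1) ≤
          (c / ((n + 1 : ℕ) : ℝ)) * ∑ j ∈ range (n + 1), ‖a j‖ / Q ^ j := by
        rw [div_mul_eq_mul_div, le_div_iff₀ hn, mul_comm]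
        exact h1
      have h3 : ((n + 1 + c).choose (n + 1) : ℝ) =
          ((n + c).choose n : ℝ) * ((n + 1 + c : ℕ) : ℝ) / ((n + 1 : ℕ) : ℝ) := by
        rw [eq_div_iff hn.ne']
        have h4 := Nat.add_one_mul_choose_eq (n + c) n
        have h5 : n + 1 + c = (n + c).succ := by omega
        rw [h5]
        have h6 : ((n + c).choose n) * (n + c).succ = (n + c).succ.choose n.succ * n.succ := by
          rw [← h4, mul_comm]
        exact_mod_cast h6.symm
      rw [h3]
      have h7 : ∑ j ∈ range (n + 1), ‖a j‖ / Q ^ j + ‖a (n + 1)‖ / Q ^ (n + 1) ≤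
          (∑ j ∈ range (n + 1), ‖a j‖ / Q ^ j) * (1 + c / ((n + 1 : ℕ) : ℝ)) := by
        rw [mul_add, mul_one, mul_comm (∑ j ∈ range (n + 1), ‖a j‖ / Q ^ j) (c / _)]
        linarith
      refine h7.trans ?_
      have h8 : (1 + c / ((n + 1 : ℕ) : ℝ)) = ((n + 1 + c : ℕ) : ℝ) / ((n + 1 : ℕ) : ℝ) := by
        rw [eq_div_iff hn.ne', add_mul, div_mul_cancel₀ _ hn.ne', one_mul]
        push_cast
        ring
      rw [h8, mul_div_assoc]
      exact mul_le_mul_of_nonneg_right ih (by positivity)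
  have h9 : ‖a n‖ / Q ^ n ≤ ∑ j ∈ range (n + 1), ‖a j‖ / Q ^ j :=
    single_le_sum (f := fun j => ‖a j‖ / Q ^ j)
      (fun j _ => div_nonneg (norm_nonneg _) (pow_pos hQ j).le) (mem_range.mpr (Nat.lt_succ_self n))
  have h10 := h9.trans (hS n)
  rw [div_le_iff₀ (pow_pos hQ n)] at h10
  have h11 : (n + c).choose n = (n + c).choose c := by
    rw [Nat.choose_symm_add]
  rwa [h11] at h10

theorem summable_norm {a N : ℕ → ℂ} {c : ℕ} {Q : ℝ} (hQ : 0 < Q) (h0 : a 0 = 1)
    (h : ∀ n : ℕ, (n : ℂ) * a n = ∑ i ∈ Icc 1 n, N i * a (n - i))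
    (hN : ∀ i, 1 ≤ i → ‖N i‖ ≤ c * Q ^ i) {z : ℂ} (hz : Q * ‖z‖ < 1) :
    Summable fun n => ‖a n * z ^ n‖ := by
  have h1 : Summable fun n : ℕ => ((n + c).choose c : ℝ) * (Q * ‖z‖) ^ n :=
    summable_choose_mul_geometric_of_norm_lt_one c (by
      rw [Real.norm_of_nonneg (by positivity)]; exact hz)
  refine Summable.of_nonneg_of_le (fun n => norm_nonneg _) (fun n => ?_) h1
  rw [norm_mul, norm_pow, mul_pow, ← mul_assoc]
  exact mul_le_mul_of_nonneg_right (norm_le hQ h0 h hN n) (by positivity)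

theorem tsum_ne_zero {a N : ℕ → ℂ} {c : ℕ} {Q : ℝ} (hQ : 0 < Q) (h0 : a 0 = 1)
    (h : ∀ n : ℕ, (n : ℂ) * a n = ∑ i ∈ Icc 1 n, N i * a (n - i))
    (hN : ∀ i, 1 ≤ i → ‖N i‖ ≤ c * Q ^ i) {z : ℂ} (hz : Q * ‖z‖ < 1) :
    ∑' n, a n * z ^ n ≠ 0 := by
  let F : ℂ⟦X⟧ := PowerSeries.mk a
  have hF0 : constantCoeff F = 1 := by simp [F, h0]
  let G : ℂ⟦X⟧ := F⁻¹
  have hFG : F * G = 1 := PowerSeries.mul_inv_cancel F (by rw [hF0]; exact one_ne_zero)
  let b : ℕ → ℂ := fun n => coeff n G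
  have hb0 : b 0 = 1 := by
    have : constantCoeff (F * G) = 1 := by rw [hFG, map_one]
    rw [map_mul, hF0, one_mul, ← coeff_zero_eq_constantCoeff_apply] at this
    exact this
  let V : ℂ⟦X⟧ := PowerSeries.mk fun i => if i = 0 then 0 else N i
  -- logarithmic derivatives
  have conv : ∀ (u : ℕ → ℂ) (n : ℕ), coeff n (PowerSeries.mk u * V) = ∑ i ∈ Icc 1 n, N i * u (n - i) := by
    intro u n
    rw [coeff_mul, Finset.Nat.sum_antidiagonal_eq_sum_range_succ_mk]
    simp only [V, coeff_mk]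
    symm
    refine Finset.sum_bij_ne_zero (fun i _ _ => n - i) ?_ ?_ ?_ ?_
    · intro i hi _
      rw [Finset.mem_Icc] at hi
      rw [Finset.mem_range]
      omega
    · intro i hi _ j hj _ h
      rw [Finset.mem_Icc] at hi hj
      omega
    · intro j hj hne
      rw [Finset.mem_range] at hj
      have hj0 : n - j ≠ 0 := by
        intro h
        rw [if_pos h, mul_zero] at hne
        exact hne rfl
      refine ⟨n - j, ?_, ?_, ?_⟩
      · rw [Finset.mem_Icc]; omega
      · rw [if_neg hj0] at hne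
        have : n - (n - j) = j := by omega
        rw [this, mul_comm]
        exact hne
      · omega
    · intro i hi hne
      rw [Finset.mem_Icc] at hi
      have h1 : n - (n - i) = i := by omega
      have h2 : i ≠ 0 := by omega
      rw [h1, if_neg h2, mul_comm]
  have hLF : ZetaAbsCx.LogD F V := by
    unfold ZetaAbsCx.LogD
    ext n
    rw [conv, ← h n]
    rcases n with _ | n
    · simp
    · rw [coeff_succ_X_mul, coeff_derivative, coeff_mk, mul_comm]
      push_cast
      rfl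
  have hLG : ZetaAbsCx.LogD G (-V) := by
    unfold ZetaAbsCx.LogD at hLF ⊢
    have h1 : (X : ℂ⟦X⟧) * derivative ℂ (F * G) = 0 := by
      rw [hFG]
      simp
    rw [Derivation.leibniz, smul_eq_mul, smul_eq_mul] at h1
    have h2 : F * ((X : ℂ⟦X⟧) * derivative ℂ G) = F * (G * -V) := by
      have h3 : G * ((X : ℂ⟦X⟧) * derivative ℂ F) = G * (F * V) := by rw [hLF]
      linear_combination h1 - h3
    have hF : F ≠ 0 := by
      intro h4
      rw [h4, map_zero] at hF0
      exact zero_ne_one hF0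
    exact mul_left_cancel₀ hF h2
  have hb : ∀ n : ℕ, (n : ℂ) * b n = ∑ i ∈ Icc 1 n, (-N i) * b (n - i) := by
    intro n
    have h1 : coeff n ((X : ℂ⟦X⟧) * derivative ℂ G) = (n : ℂ) * b n := by
      rcases n with _ | n
      · simp
      · rw [coeff_succ_X_mul, coeff_derivative, mul_comm]
        push_cast
        rfl
    have h2 : PowerSeries.mk b = G := by
      ext m
      rw [coeff_mk]
    rw [← h1, hLG, mul_neg, map_neg, ← h2, conv, ← sum_neg_distrib]
    exact sum_congr rfl fun i _ => by ring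
  have hsa := summable_norm hQ h0 h hN hz
  have hsb := summable_norm hQ hb0 hb (fun i hi => by rw [norm_neg]; exact hN i hi) hz
  have hprod := tsum_mul_tsum_eq_tsum_sum_antidiagonal_of_summable_norm hsa hsb
  intro h1
  rw [h1, zero_mul] at hprod
  have h2 : ∀ n, ∑ kl ∈ antidiagonal n, a kl.1 * z ^ kl.1 * (b kl.2 * z ^ kl.2) =
      if n = 0 then 1 else 0 := by
    intro n
    have h3 : ∑ kl ∈ antidiagonal n, a kl.1 * z ^ kl.1 * (b kl.2 * z ^ kl.2) =
        coeff n (F * G) * z ^ n := by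
      rw [coeff_mul, sum_mul]
      refine sum_congr rfl fun kl hkl => ?_
      rw [mem_antidiagonal] at hkl
      rw [← hkl, pow_add]
      simp only [F, coeff_mk, b]
      ring
    rw [h3, hFG, coeff_one]
    split_ifs with h4
    · rw [h4]; simp
    · simp
  rw [tsum_congr h2, tsum_ite_eq] at hprod
  exact zero_ne_one hprod

end K656.ExpSer
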